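/-
Fixed points of entrywise field maps in a Chevalley group whose Cartan matrix is unimodular.
-/
import Cfsg.Agent.Lib.Chev.All
import Cfsg.Prelude.Def_ChevAutomorphisms

set_option autoImplicit false

namespace CfsgLib.ChevFix

open Cfsg.Lie CfsgLib.Chev
open scoped Matrix

variable {D : ChevalleyDatum} {co : ℕ → ℕ → ℤ}

/-- An entrywise map of the general linear group. -/
noncomputable def gMap (D : ChevalleyDatum) {R S : Type*} [CommRing R] [CommRing S] (f : R →+* S) :
    GL D.Idx R →* GL D.Idx S := Units.map f.mapMatrix.toMonoidHom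

lemma gMap_val {R S : Type*} [CommRing R] [CommRing S] (f : R →+* S) (g : GL D.Idx R) :
    ((gMap D f g : GL D.Idx S) : Matrix D.Idx D.Idx S) = (g : Matrix D.Idx D.Idx R).map f := rfl

section

variable {K L : Type*} [Field K] [Field L] (f : K →+* L)

lemma gMap_xU (hF : Facts D co) {r : ℕ} (hr : r < D.nroots) (t : K) : gMap D f (xU D r t) = xU D r (f t) := by
  apply Units.ext
  rw [gMap_val, hF.xU_val' hr, hF.xU_val' hr, xR_map]

lemma gMap_wU (hF : Facts D co) (w : List (ℕ × K)) (hw : ∀ p ∈ w, p.1 < D.nroots) :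
    gMap D f (wU D w) = wU D (w.map fun p => (p.1, f p.2)) := by
  rw [wU, wU, map_list_prod, List.map_map, List.map_map]
  exact congrArg List.prod (List.map_congr_left fun p hp => gMap_xU f hF (hw p hp) p.2)

lemma gMap_nU (hF : Facts D co) {r : ℕ} (hr : r < D.nroots) (t : K) : gMap D f (nU D r t) = nU D r (f t) := by
  rw [nU, nU, map_mul, map_mul, gMap_xU f hF hr, gMap_xU f hF (hF.neg_lt hr), map_neg, map_inv₀]

lemma gMap_nW (hF : Facts D co) (l : List (Fin D.rank)) : gMap D f (nW D K l) = nW D L l := by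
  rw [nW, nW, map_list_prod, List.map_map]
  refine congrArg List.prod (List.map_congr_left fun i _ => ?_)
  rw [Function.comp_apply, nS, nS, gMap_nU f hF (hF.simple_lt' i.isLt), map_one]

lemma gMap_hT (c : ℕ → Kˣ) : gMap D f (hT D c) = hT D fun i => Units.map f.toMonoidHom (c i) := by
  apply Units.ext
  rw [gMap_val, hT, hT, dU_val, dU_val, diagC, diagC, Matrix.diagonal_map (map_zero f)]
  congr 1
  funext a
  rcases a with j | s
  · simp
  · simp

lemma gMap_rootClosure_le (hF : Facts D co) (P : ℕ → Prop) :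
    (rootClosure D K P).map (gMap D f) ≤ rootClosure D L P := by
  rw [rootClosure, MonoidHom.map_closure, Subgroup.closure_le]
  rintro _ ⟨_, ⟨r, t, hr, hP, rfl⟩, rfl⟩
  exact gMap_xU f hF hr t ▸ xU_mem_rootClosure hr hP (f t)

lemma gMap_group_le (hF : Facts D co) : (D.group K).map (gMap D f) ≤ D.group L := by
  rw [hF.group_eq, hF.group_eq]
  exact gMap_rootClosure_le f hF _

lemma gMap_mem_borel (hF : Facts D co) {b : GL D.Idx K} (hb : b ∈ D.borelSubgroup K) :
    gMap D f b ∈ D.borelSubgroup L := by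
  obtain ⟨u, hu, h, hh, rfl⟩ := hF.mem_borel_iff.1 hb
  obtain ⟨c, rfl⟩ := hF.mem_diagonal_iff.1 hh
  exact hF.mem_borel_iff.2 ⟨_, gMap_rootClosure_le f hF _ ⟨u, hu, rfl⟩, _,
    hF.mem_diagonal_iff.2 ⟨_, gMap_hT f c⟩, map_mul _ _ _⟩

end

lemma gMap_injective (D : ChevalleyDatum) {K L : Type*} [Field K] [Field L] (f : K →+* L) :
    Function.Injective (gMap D f) := fun _ _ h =>
  Units.ext (Matrix.map_injective f.injective (congrArg Units.val h :))

/-- The Cartan matrix of `D` is invertible over the integers. -/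
def Unimod (D : ChevalleyDatum) : Prop :=
  ∃ B : ℕ → ℕ → ℤ, ∀ i < D.rank, ∀ j < D.rank,
    (∑ q ∈ Finset.range D.rank, D.cartan i (D.simple q) * B q j) = if i = j then 1 else 0

lemma coord_of_character (hF : Facts D co) {B : ℕ → ℕ → ℤ}
    (hB : ∀ i < D.rank, ∀ j < D.rank,
      (∑ q ∈ Finset.range D.rank, D.cartan i (D.simple q) * B q j) = if i = j then 1 else 0)
    {K : Type*} [Field K] (c : ℕ → Kˣ) {j : ℕ} (hj : j < D.rank) :
    c j = ∏ q ∈ Finset.range D.rank,
      (∏ i ∈ Finset.range D.rank, c i ^ D.cartan i (D.simple q)) ^ B q j := by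
  have _ := hF
  have hz : ∀ (x : Kˣ) (f : ℕ → ℤ) (s : Finset ℕ), ∏ q ∈ s, x ^ f q = x ^ (∑ q ∈ s, f q) := fun x f s => by
    classical
    induction s using Finset.induction_on with
    | empty => simp
    | insert a s ha ih => rw [Finset.prod_insert ha, Finset.sum_insert ha, ih, zpow_add]
  simp only [← Finset.prod_zpow, ← zpow_mul]
  rw [Finset.prod_comm, Finset.prod_congr rfl fun i hi => by
    rw [hz, hB i (Finset.mem_range.1 hi) j hj]]
  simp [hj]

section Descent

universe v

variable {F₀ : Type*} [Field F₀] {F : Type v} [Field F] (hF : Facts D co) (hC : CommF.{v} D) (hU : Unimod D)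
  (ι : F₀ →+* F) (τ : F →+* F) (hτ : ∀ x, τ x = x → x ∈ Set.range ι)

include hF hC hτ in
lemma fixed_pos {u : GL D.Idx F} (hu : u ∈ rootClosure D F (D.nroots / 2 ≤ ·)) (hfix : gMap D τ u = u) :
    u ∈ (D.group F₀).map (gMap D ι) := by
  have hev := hF.nroots_even
  obtain ⟨t, ht⟩ := hF.exists_ordered hC (m := D.nroots / 2) (k := D.nroots / 2) (by omega) le_rfl hu
  have hlt : ∀ p ∈ (List.range' (D.nroots / 2) (D.nroots / 2)).map fun r => (r, t r), p.1 < D.nroots := by
    intro p hp
    obtain ⟨r, hr, rfl⟩ := List.mem_map.1 hp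
    rw [List.mem_range'_1] at hr
    show r < D.nroots
    omega
  rw [ht, gMap_wU τ hF _ hlt, List.map_map] at hfix
  have heq := hF.ordered_unique (by omega) le_rfl (t := fun r => τ (t r)) (t' := t) hfix
  rw [ht]
  refine wU_mem fun p hp => ?_
  obtain ⟨r, hr, rfl⟩ := List.mem_map.1 hp
  rw [List.mem_range'_1] at hr
  obtain ⟨x, hx⟩ := hτ (t r) (heq r hr.1 (by omega))
  show xU D r (t r) ∈ _
  rw [← hx, ← gMap_xU ι hF (by omega)]
  refine Subgroup.mem_map_of_mem _ ?_
  rw [hF.group_eq]
  exact xU_mem_rootClosure (by omega) trivial x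

include hF hU hτ in
lemma fixed_diagonal {h : GL D.Idx F} (hh : h ∈ D.diagonalSubgroup F) (hfix : gMap D τ h = h) :
    h ∈ (D.group F₀).map (gMap D ι) := by
  classical
  obtain ⟨B, hB⟩ := hU
  obtain ⟨c, rfl⟩ := hF.mem_diagonal_iff.1 hh
  have hc : ∀ j < D.rank, τ (c j : F) = (c j : F) := by
    intro j hj
    have hq : ∀ q < D.rank, Units.map τ.toMonoidHom (∏ i ∈ Finset.range D.rank, c i ^ D.cartan i (D.simple q)) =
        ∏ i ∈ Finset.range D.rank, c i ^ D.cartan i (D.simple q) := by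
      intro q hq
      apply Units.ext
      have := congrArg (fun g : GL D.Idx F => (g : Matrix D.Idx D.Idx F) (Sum.inr ⟨_, hF.simple_lt' hq⟩)
        (Sum.inr ⟨_, hF.simple_lt' hq⟩)) hfix
      simpa [gMap_val, hT, dU_val, diagC] using this
    have h1 : Units.map τ.toMonoidHom (c j) = c j := by
      conv_lhs => rw [coord_of_character hF hB c hj]
      rw [map_prod, Finset.prod_congr rfl fun q hq' => by rw [map_zpow, hq q (Finset.mem_range.1 hq')]]
      exact (coord_of_character hF hB c hj).symm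
    exact congrArg Units.val h1
  have hex : ∀ j < D.rank, ∃ x : F₀ˣ, Units.map ι.toMonoidHom x = c j := fun j hj => by
    obtain ⟨x, hx⟩ := hτ _ (hc j hj)
    refine ⟨Units.mk0 x ?_, Units.ext hx⟩
    rintro rfl
    exact (c j).ne_zero (by rw [← hx, map_zero])
  choose x hx using hex
  refine ⟨hT D (fun j => if h : j < D.rank then x j h else 1), hF.diagonal_le_group (hF.mem_diagonal_iff.2 ⟨_, rfl⟩), ?_⟩
  rw [gMap_hT, hT, hT]
  refine dU_congr fun s _ => Finset.prod_congr rfl fun j hj => ?_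
  simp only [dif_pos (Finset.mem_range.1 hj), hx]

include hF hC hU hτ in
/-- A fixed element of the Chevalley group is defined over the fixed field. -/
theorem fixed_mem {g : GL D.Idx F} (hg : g ∈ D.group F) (hfix : gMap D τ g = g) :
    g ∈ (D.group F₀).map (gMap D ι) := by
  obtain ⟨b, hb, n, hn, σ, hσ, u, hu, e⟩ := hF.bruhat_exists hC hg
  obtain ⟨l, h, hh, rfl⟩ := hF.exists_nW hn
  obtain rfl : sW D l * 1 = σ := hF.permAct_unique (hF.permAct_mul (hF.permAct_nW l) (hF.permAct_diagonal hh)) hσ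
  rw [mul_one] at hu
  have hconj : ∀ l : List (Fin D.rank), ∀ h ∈ D.diagonalSubgroup F,
      nW D F l * h * (nW D F l)⁻¹ ∈ D.diagonalSubgroup F := by
    intro l
    induction l with
    | nil => intro h hh; simpa [nW_nil] using hh
    | cons i l ih =>
      intro h hh
      rw [nW_cons, show nS D F i * nW D F l * h * (nS D F i * nW D F l)⁻¹ =
        nS D F i * (nW D F l * h * (nW D F l)⁻¹) * (nS D F i)⁻¹ by group]
      exact hF.nS_conj_hT i (ih h hh)
  set b' := b * (nW D F l * h * (nW D F l)⁻¹) with hb'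
  have hbB : b' ∈ D.borelSubgroup F := Subgroup.mul_mem _ hb (hF.diagonal_le_borel (hconj l h hh))
  have e' : g = b' * nW D F l * u := by rw [e, hb']; group
  have hτu : gMap D τ u ∈ rootClosure D F (PosFlip (sW D l)) := gMap_rootClosure_le τ hF _ ⟨u, hu, rfl⟩
  have heq : gMap D τ b' * nW D F l * gMap D τ u = b' * nW D F l * u := by
    rw [← gMap_nW τ hF l (K := F), ← map_mul, ← map_mul, ← e', hfix]
    rw [gMap_nW τ hF l]
    exact e'
  obtain ⟨hbfix, hufix⟩ := hF.bruhat_unique (hF.permAct_nW l) (gMap_mem_borel τ hF hbB) hbB hτu hu heq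
  have hu' : u ∈ (D.group F₀).map (gMap D ι) :=
    fixed_pos hF hC ι τ hτ (rootClosure_mono (fun r _ hr => hr.2.1) hu) hufix
  obtain ⟨v, hv, d, hd, hvd⟩ := hF.mem_borel_iff.1 hbB
  have hd' : gMap D τ d ∈ D.diagonalSubgroup F := by
    obtain ⟨c, rfl⟩ := hF.mem_diagonal_iff.1 hd
    exact hF.mem_diagonal_iff.2 ⟨_, gMap_hT τ c⟩
  have hv' : gMap D τ v ∈ rootClosure D F (D.nroots / 2 ≤ ·) := gMap_rootClosure_le τ hF _ ⟨v, hv, rfl⟩
  have h3 : gMap D τ v * gMap D τ d = v * d := by rw [← map_mul, ← hvd]; exact hbfix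
  have h4 : v⁻¹ * gMap D τ v ∈ rootClosure D F (D.nroots / 2 ≤ ·) ⊓ D.diagonalSubgroup F := by
    refine ⟨Subgroup.mul_mem _ (Subgroup.inv_mem _ hv) hv', ?_⟩
    rw [show v⁻¹ * gMap D τ v = d * (gMap D τ d)⁻¹ by
      rw [eq_mul_inv_iff_mul_eq, mul_assoc, h3, inv_mul_cancel_left]]
    exact Subgroup.mul_mem _ hd (Subgroup.inv_mem _ hd')
  rw [hF.pos_inf_diagonal, Subgroup.mem_bot, inv_mul_eq_one] at h4
  rw [← h4, mul_right_inj] at h3
  have hn' : nW D F l ∈ (D.group F₀).map (gMap D ι) :=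
    ⟨nW D F₀ l, hF.monomial_le_group (hF.nW_mem l), gMap_nW ι hF l⟩
  rw [e', hvd]
  exact Subgroup.mul_mem _ (Subgroup.mul_mem _ (Subgroup.mul_mem _
    (fixed_pos hF hC ι τ hτ hv h4.symm) (fixed_diagonal hF hU ι τ hτ hd h3)) hn') hu'

end Descent

/-- A type of given finite cardinality, without algebraic structure of its own. -/
def Model (n : ℕ) : Type := Fin n

section Auto

universe v

variable {F : Type v} [Field F] [Finite F]

/-- The fixed points of a field automorphism of prime order form the group over the subfield of index that prime. -/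
theorem fieldAut_fixed (hG : Good.{v} D) (hU : Unimod D) (φ : MulAut ↥(D.group F))
    (hφ : D.IsFieldAut φ) {r : ℕ} (hr : r.Prime) (ho : orderOf φ = r) :
    ∃ (F₀ : Type) (_ : Field F₀) (_ : Fintype F₀), Nat.card F = Fintype.card F₀ ^ r ∧
      Nonempty (↥((MulEquiv.toMonoidHom φ).eqLocus (MonoidHom.id ↥(D.group F))) ≃* ↥(D.group F₀)) := by
  classical
  obtain ⟨co, hF⟩ := hG.facts
  obtain ⟨σ, hσ⟩ := hφ
  have hact : ∀ g : ↥(D.group F), (φ g : GL D.Idx F) = gMap D σ.toRingHom g := by
    have hle : ∀ g, g ∈ rootClosure D F (fun _ => True) → ∀ hg : g ∈ D.group F,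
        (φ ⟨g, hg⟩ : GL D.Idx F) = gMap D σ.toRingHom g := by
      intro g hg
      induction hg using Subgroup.closure_induction with
      | mem x hx =>
        obtain ⟨s, t, hs, -, rfl⟩ := hx
        intro hg
        apply Units.ext
        rw [hσ ⟨_, hg⟩ s t hs (hF.xU_val hs t), gMap_xU σ.toRingHom hF hs, hF.xU_val hs]
        rfl
      | one => intro hg; rw [show (⟨1, hg⟩ : ↥(D.group F)) = 1 from rfl, map_one, map_one]; rfl
      | mul x y hx hy ihx ihy =>
        intro hg
        have hx' : x ∈ D.group F := by rw [hF.group_eq]; exact hx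
        have hy' : y ∈ D.group F := by rw [hF.group_eq]; exact hy
        rw [show (⟨x * y, hg⟩ : ↥(D.group F)) = ⟨x, hx'⟩ * ⟨y, hy'⟩ from rfl, map_mul, map_mul,
          Subgroup.coe_mul, ihx hx', ihy hy']
      | inv x hx ihx =>
        intro hg
        have hx' : x ∈ D.group F := by rw [hF.group_eq]; exact hx
        rw [show (⟨x⁻¹, hg⟩ : ↥(D.group F)) = ⟨x, hx'⟩⁻¹ from rfl, map_inv, map_inv, Subgroup.coe_inv, ihx hx']
    exact fun g => hle g (by rw [← hF.group_eq]; exact g.2) g.2
  have hpow : ∀ (k : ℕ) (g : ↥(D.group F)), ((φ ^ k) g : GL D.Idx F) = gMap D (σ ^ k).toRingHom g := by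
    intro k
    induction k with
    | zero => intro g; exact Units.ext (Matrix.ext fun a b => rfl)
    | succ k ih =>
      intro g
      rw [pow_succ', MulAut.mul_apply, hact, ih, pow_succ']
      exact Units.ext (Matrix.ext fun a b => rfl)
  have hiff : ∀ k : ℕ, φ ^ k = 1 ↔ σ ^ k = 1 := by
    intro k
    constructor
    · intro h
      have hs : D.simple 0 < D.nroots := hF.simple_lt' hF.rank_pos
      refine RingEquiv.ext fun t => ?_
      have hm : xU D (D.simple 0) t ∈ D.group F := by rw [hF.group_eq]; exact xU_mem_rootClosure hs trivial t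
      have h1 := hpow k ⟨_, hm⟩
      rw [h, MulAut.one_apply, gMap_xU _ hF hs] at h1
      have h2 : xU D (D.simple 0) (t + -(σ ^ k).toRingHom t) = 1 := by
        rw [← hF.xU_add hs, ← hF.xU_inv hs, mul_inv_eq_one]; exact h1
      exact (add_neg_eq_zero.1 (hF.xU_eq_one hs h2)).symm
    · intro h
      refine MulEquiv.ext fun g => Subtype.ext ?_
      rw [hpow, h]
      exact Units.ext (Matrix.ext fun a b => rfl)
  have hord : orderOf σ = r := by
    rw [← ho]
    exact orderOf_eq_orderOf_iff.2 fun k => (hiff k).symm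
  set H : Subgroup (F ≃+* F) := Subgroup.zpowers σ with hH
  letI : Fintype F := Fintype.ofFinite F
  haveI : Finite (F ≃+* F) := Finite.of_injective (fun e => (e : F → F)) DFunLike.coe_injective
  haveI : Fintype H := Fintype.ofFinite H
  set K := FixedPoints.subfield H F with hKdef
  have hcard : Nat.card F = Nat.card K ^ r := by
    rw [Module.natCard_eq_pow_finrank (K := K) (V := F), FixedPoints.finrank_eq_card H F, ← Nat.card_eq_fintype_card,
      Nat.card_zpowers, hord]
  letI : Fintype K := Fintype.ofFinite K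
  let M := Model (Fintype.card K)
  let e : M ≃ K := (Fintype.equivFin K).symm
  letI fld : Field M := e.field
  letI : Fintype M := Fintype.ofEquiv _ e.symm
  let ε : M ≃+* K := e.ringEquiv
  let ι : M →+* F := (algebraMap K F).comp ε.toRingHom
  have hK : ∀ x : F, σ x = x ↔ x ∈ K := by
    intro x
    constructor
    · intro h g
      have : H ≤ MulAction.stabilizer (F ≃+* F) x := by
        rw [hH, Subgroup.zpowers_le]; exact h
      exact this g.2
    · intro h
      exact h ⟨σ, Subgroup.mem_zpowers σ⟩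
  have hτ : ∀ x, σ.toRingHom x = x → x ∈ Set.range ι := fun x hx =>
    ⟨ε.symm ⟨x, (hK x).1 hx⟩, by simp [ι]; rfl⟩
  have hmem : ∀ h : ↥(D.group M), gMap D ι h ∈ D.group F := fun h =>
    gMap_group_le ι hF ⟨_, h.2, rfl⟩
  let ψ : ↥(D.group M) →*
      ↥((MulEquiv.toMonoidHom φ).eqLocus (MonoidHom.id ↥(D.group F))) :=
    { toFun := fun h => ⟨⟨gMap D ι h, hmem h⟩, by
        refine Subtype.ext ?_
        show (φ _ : GL D.Idx F) = gMap D ι h
        rw [hact]
        refine Units.ext (Matrix.ext fun a b => ?_)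
        exact (hK _).2 (ε (((h : GL D.Idx M) : Matrix D.Idx D.Idx M) a b)).2⟩
      map_one' := Subtype.ext (Subtype.ext (map_one _))
      map_mul' := fun a b => Subtype.ext (Subtype.ext (map_mul _ _ _)) }
  refine ⟨M, fld, inferInstance, ?_, ⟨(MulEquiv.ofBijective ψ ⟨?_, ?_⟩).symm⟩⟩
  · rw [hcard, ← Nat.card_eq_fintype_card, Nat.card_congr e]
  · intro a b h
    exact Subtype.ext (gMap_injective D ι (congrArg (fun x => (x.1.1 : GL D.Idx F)) h))
  · rintro ⟨⟨g, hg⟩, hfix⟩
    have hfix' : gMap D σ.toRingHom g = g := by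
      rw [← hact ⟨g, hg⟩]; exact congrArg Subtype.val hfix
    obtain ⟨g₀, hg₀, e₀⟩ := fixed_mem hF hG.comm hU ι σ.toRingHom hτ hg hfix'
    exact ⟨⟨g₀, hg₀⟩, Subtype.ext (Subtype.ext e₀)⟩

end Auto

end CfsgLib.ChevFix
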